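import Groth.Agent.Lib.StAlg.Descent

/-!
# The diagonal is locally of finite type
-/

universe u

open CategoryTheory CategoryTheory.Functor CategoryTheory.Limits AlgebraicGeometry Opposite

set_option linter.style.haveILetI false
set_option backward.isDefEq.respectTransparency false
set_option backward.isDefEq.respectTransparency.types false

namespace Groth.Agent.StDM16

open Groth.Agent.FC16 Groth.Agent.StAlg AlgSt

variable {S : Scheme.{u}} {K : Precoverage Scheme.{u}} {𝒳 𝒴 : AlgSt.Cat S}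

theorem lft_diag_toSelf (h𝒳 : AlgSt.IsAlgStack K 𝒳) :
    AlgSt.RepByAlgSpWith (AlgSp.LocP @LocallyOfFiniteType) (FibCat.diag (FibCat.toSelf 𝒳)) := by
  obtain ⟨U, w, hsm, hs⟩ := h𝒳.atlas
  have h₁ := with_locP_mono smooth_le_flat hsm
  have h₂ := with_locP_mono smooth_le_lfp hsm
  have h₄ := with_locP_mono smooth_le_lft hsm
  have hg := h𝒳.isStack.1
  have hU : AlgSt.RepByAlgSp (FibCat.overCat U) := rep_overCat U
  have hz := isFibGrpd_of_rep hU
  let t := FibCat.toSelf 𝒳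
  refine with_of_fpFst_cover (z := pair (Iso.refl (BasedFunctor.comp w t)) (Iso.refl (BasedFunctor.comp w t)))
    pbP_locP isLocalOnBase_fppf_locP_lft hg (fp_isFibGrpd hg hg selfOver_isFibGrpd _ _)
    (fp_isFibGrpd hz hz selfOver_isFibGrpd _ _) h𝒳.diag
    (with_fp_map_gen goodP_locP hg selfOver_isFibGrpd t t hz hz h₁ h₁)
    (with_fp_map_gen goodP_locP hg selfOver_isFibGrpd t t hz hz h₂ h₂)
    (with_fp_map_gen goodP_surjective hg selfOver_isFibGrpd t t hz hz hs hs)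
    ((with_cmp_iff (wrIso (FibCat.fpIso w w) t) (fun _ => rfl)).2 ?_)
  have hk : AlgSt.RepByAlgSp1 (BasedFunctor.comp w t) := rep1_of_rep hU rep_selfOver _
  exact with_of_comp (g := FibCat.fpFst (BasedFunctor.comp w t) (BasedFunctor.comp w t)) goodP_locP
    (fp_isFibGrpd hz hz hg _ _) (fp_isFibGrpd hz hz selfOver_isFibGrpd _ _) hz
    (with_of_iso (Iso.refl _) (with_fpFst w h₄))
    (with_diag_of_rep1 pbP_locP (repByAlgSp1_iff.1 (rep1_fpFst _ hk))
      fun _ hX _ a _ => locP_mono lftUnram_le_lft (locP_lftUnram_diagonal hX a))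

theorem lft_diag (h𝒳 : AlgSt.IsAlgStack K 𝒳) (h𝒴 : AlgSt.IsAlgStack K 𝒴) (f : 𝒳 ⥤ᵇ 𝒴) :
    AlgSt.RepByAlgSpWith (AlgSp.LocP @LocallyOfFiniteType) (FibCat.diag f) :=
  with_diag_of_comp (g := FibCat.toSelf 𝒴) (Q := ⊤) goodP_locP pbP_locP h𝒳.isStack.1 h𝒴.isStack.1
    selfOver_isFibGrpd (with_diag_of_iso (eqToIso (selfOver_functor_eq _ _)) (lft_diag_toSelf h𝒳))
    (repByAlgSp1_iff.1 h𝒴.diag) fun _ hX _ a _ => locP_mono lftUnram_le_lft (locP_lftUnram_diagonal hX a)

end Groth.Agent.StDM16
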