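import Groth.Agent.Lib.StSmooth16.Scheme

/-!
# Unramifiedness from uniqueness of lifts of small thickenings
-/

universe u

open IsLocalRing CategoryTheory CategoryTheory.Limits AlgebraicGeometry

set_option linter.style.haveILetI false
set_option backward.isDefEq.respectTransparency false
set_option backward.isDefEq.respectTransparency.types false

namespace Groth.Agent.StDM16

variable {X Y : Scheme.{u}} (f : X ⟶ Y)

/-- uniqueness of lifts along thickenings with simple kernel -/
def SimpleUniq : Prop :=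
  ∀ (A A₀ : Type u) [CommRing A] [IsArtinianRing A] [IsLocalRing A] [CommRing A₀] [IsLocalRing A₀]
    (φ : A →+* A₀), Function.Surjective φ → IsSimpleModule A (RingHom.ker φ) →
    ∀ g₁ g₂ : Spec (CommRingCat.of A) ⟶ X, g₁ ≫ f = g₂ ≫ f →
      Spec.map (CommRingCat.ofHom φ) ≫ g₁ = Spec.map (CommRingCat.ofHom φ) ≫ g₂ → g₁ = g₂

variable {f}

/-- uniqueness along all thickenings of Artinian local rings follows from the simple ones -/
theorem eq_of_simpleUniq (H : SimpleUniq f) (A : Type u) [CommRing A] [IsArtinianRing A] [IsLocalRing A]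
    (I : Ideal A) : I ≠ ⊤ → ∀ g₁ g₂ : Spec (CommRingCat.of A) ⟶ X, g₁ ≫ f = g₂ ≫ f →
      Spec.map (CommRingCat.ofHom (Ideal.Quotient.mk I)) ≫ g₁ =
        Spec.map (CommRingCat.ofHom (Ideal.Quotient.mk I)) ≫ g₂ → g₁ = g₂ := by
  induction I using IsWellFounded.induction (r := ((· < ·) : Ideal A → Ideal A → Prop)) with
  | ind I ih =>
    intro hI g₁ g₂ hf hg
    by_cases h0 : I = ⊥
    · subst h0
      haveI : IsIso (Spec.map (CommRingCat.ofHom (Ideal.Quotient.mk (⊥ : Ideal A)))) := by
        haveI : IsIso (CommRingCat.ofHom (Ideal.Quotient.mk (⊥ : Ideal A))) :=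
          (ConcreteCategory.isIso_iff_bijective _).2
            ⟨(RingHom.injective_iff_ker_eq_bot _).2 Ideal.mk_ker, Ideal.Quotient.mk_surjective⟩
        infer_instance
      exact (cancel_epi _).1 hg
    obtain ⟨J, hJI, hJ⟩ := wellFounded_gt.has_min {J : Ideal A | J < I} ⟨⊥, bot_lt_iff_ne_bot.2 h0⟩
    have hJtop : J ≠ ⊤ := fun h => hI (top_le_iff.1 (h ▸ hJI.le))
    haveI : Nontrivial (A ⧸ J) := Ideal.Quotient.nontrivial_iff.2 hJtop
    haveI : Nontrivial (A ⧸ I) := Ideal.Quotient.nontrivial_iff.2 hI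
    haveI : IsLocalRing (A ⧸ J) := IsLocalRing.of_surjective' _ Ideal.Quotient.mk_surjective
    haveI : IsLocalRing (A ⧸ I) := IsLocalRing.of_surjective' _ Ideal.Quotient.mk_surjective
    haveI : IsArtinianRing (A ⧸ J) := (Ideal.Quotient.mk_surjective (I := J)).isArtinianRing
    have hker : IsSimpleModule (A ⧸ J) (RingHom.ker (Ideal.Quotient.factor hJI.le)) := by
      rw [isSimpleModule_iff_isAtom]
      constructor
      · intro h
        refine (lt_irrefl J) (hJI.trans_le fun x hx => ?_)
        have : Ideal.Quotient.mk J x ∈ RingHom.ker (Ideal.Quotient.factor hJI.le) := by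
          rw [RingHom.mem_ker]
          exact (Ideal.Quotient.factor_mk hJI.le x).trans (Ideal.Quotient.eq_zero_iff_mem.2 hx)
        rw [h] at this
        exact Ideal.Quotient.eq_zero_iff_mem.1 this
      · intro K hK
        have hle : J ≤ Ideal.comap (Ideal.Quotient.mk J) (K : Ideal (A ⧸ J)) := fun x hx => by
          rw [Ideal.mem_comap, Ideal.Quotient.eq_zero_iff_mem.2 hx]; exact K.zero_mem
        have hlt : Ideal.comap (Ideal.Quotient.mk J) (K : Ideal (A ⧸ J)) < I := by
          refine lt_of_le_of_ne (fun x hx => ?_) fun he => hK.ne (le_antisymm hK.le fun x hx => ?_)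
          · have := hK.le hx
            rw [RingHom.mem_ker] at this
            exact Ideal.Quotient.eq_zero_iff_mem.1 ((Ideal.Quotient.factor_mk hJI.le x).symm.trans this)
          · obtain ⟨y, rfl⟩ := Ideal.Quotient.mk_surjective x
            rw [RingHom.mem_ker] at hx
            have hy : y ∈ I := Ideal.Quotient.eq_zero_iff_mem.1 ((Ideal.Quotient.factor_mk hJI.le y).symm.trans hx)
            rw [← he] at hy
            exact hy
        have heq : Ideal.comap (Ideal.Quotient.mk J) (K : Ideal (A ⧸ J)) = J := by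
          by_contra hne
          exact hJ _ hlt (lt_of_le_of_ne hle (Ne.symm hne))
        rw [eq_bot_iff]
        intro x hx
        obtain ⟨y, rfl⟩ := Ideal.Quotient.mk_surjective x
        have : y ∈ Ideal.comap (Ideal.Quotient.mk J) (K : Ideal (A ⧸ J)) := hx
        rw [heq] at this
        exact Ideal.Quotient.eq_zero_iff_mem.2 this
    have hcomp : CommRingCat.ofHom (Ideal.Quotient.mk J) ≫ CommRingCat.ofHom (Ideal.Quotient.factor hJI.le) =
        CommRingCat.ofHom (Ideal.Quotient.mk I) := by
      ext x; exact Ideal.Quotient.factor_mk hJI.le x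
    have hJeq := H (A ⧸ J) (A ⧸ I) (Ideal.Quotient.factor hJI.le) (Ideal.Quotient.factor_surjective hJI.le) hker
      (Spec.map (CommRingCat.ofHom (Ideal.Quotient.mk J)) ≫ g₁)
      (Spec.map (CommRingCat.ofHom (Ideal.Quotient.mk J)) ≫ g₂)
      (by rw [Category.assoc, Category.assoc, hf])
      (by rw [← Category.assoc, ← Category.assoc, ← Spec.map_comp, hcomp, hg])
    exact ih J hJI hJtop g₁ g₂ hf hJeq

/-- unramifiedness from uniqueness of lifts -/
theorem formallyUnramified_of_simpleUniq [LocallyOfFiniteType f] (H : SimpleUniq f) : FormallyUnramified f := by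
  have key : ∀ x, ∃ V : X.Opens, x ∈ V ∧ FormallyUnramified (V.ι ≫ f) := by
    intro x
    refine EtaleNhd17.exists_formallyUnramified_of_stalk f x
      (ArtinCrit5.exists_formallyUnramified_of_liftsUnique f x ?_)
    intro A' _ _ _ h _ I hI _ g₁ g₂ h₁ h₂ he hloc _
    haveI : Nontrivial (A' ⧸ I) := Ideal.Quotient.nontrivial_iff.2 hI
    haveI : IsLocalRing (A' ⧸ I) := IsLocalRing.of_surjective' _ Ideal.Quotient.mk_surjective
    haveI : IsLocalHom (Ideal.Quotient.mk I) := IsLocalHom.of_surjective _ Ideal.Quotient.mk_surjective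
    have h2 : (maximalIdeal A').map (Ideal.Quotient.mk I) ≤ maximalIdeal (A' ⧸ I) :=
      Ideal.map_le_iff_le_comap.2 ((IsLocalRing.maximalIdeal_comap (Ideal.Quotient.mk I)).ge)
    have hl₁ : IsLocalHom g₁ := ⟨fun b hb => by
      by_contra hb'
      exact (IsLocalRing.mem_maximalIdeal _).1 (h2 (hloc b ((IsLocalRing.mem_maximalIdeal b).2 hb')))
        (hb.map (Ideal.Quotient.mk I))⟩
    have hl₂ : IsLocalHom g₂ := ⟨fun b hb => by
      by_contra hb'
      have := h2 (hloc b ((IsLocalRing.mem_maximalIdeal b).2 hb'))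
      rw [show Ideal.Quotient.mk I (g₁ b) = Ideal.Quotient.mk I (g₂ b) from RingHom.congr_fun he b] at this
      exact (IsLocalRing.mem_maximalIdeal _).1 this (hb.map (Ideal.Quotient.mk I))⟩
    have hcomp : f.stalkMap x ≫ CommRingCat.ofHom g₁ = f.stalkMap x ≫ CommRingCat.ofHom g₂ := by
      ext1; exact h₁.trans h₂.symm
    have hred : CommRingCat.ofHom g₁ ≫ CommRingCat.ofHom (Ideal.Quotient.mk I) =
        CommRingCat.ofHom g₂ ≫ CommRingCat.ofHom (Ideal.Quotient.mk I) := by
      ext1; exact he
    have e := eq_of_simpleUniq H A' I hI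
      (Spec.map (CommRingCat.ofHom g₁) ≫ X.fromSpecStalk x) (Spec.map (CommRingCat.ofHom g₂) ≫ X.fromSpecStalk x)
      (by rw [Category.assoc, Category.assoc, ← Scheme.SpecMap_stalkMap_fromSpecStalk, ← Category.assoc,
        ← Category.assoc, ← Spec.map_comp, ← Spec.map_comp, hcomp])
      (by rw [← Category.assoc, ← Category.assoc, ← Spec.map_comp, ← Spec.map_comp, hred])
    exact congrArg CommRingCat.Hom.hom
      (StSmooth16.eq_of_comp_fromSpecStalk (CommRingCat.ofHom g₁) (CommRingCat.ofHom g₂) hl₁ hl₂ e)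
  choose V hxV hV using key
  exact IsZariskiLocalAtSource.of_openCover (P := @FormallyUnramified)
    (X.openCoverOfIsOpenCover V (TopologicalSpace.IsOpenCover.mk (eq_top_iff.2 fun x _ =>
      TopologicalSpace.Opens.mem_iSup.2 ⟨x, hxV x⟩))) hV

end Groth.Agent.StDM16
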