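import Groth.Agent.Lib.StDM16.Pairs
import Groth.Agent.Lib.StDM16.Scheme
import Groth.Agent.Lib.StDM16.Lft
import Groth.Agent.Lib.StAlg16.LocQApps
import Groth.Agent.S10621

/-!
# DM morphisms and infinitesimal automorphisms
-/

universe u

open CategoryTheory CategoryTheory.Functor CategoryTheory.Limits AlgebraicGeometry Opposite

set_option linter.style.haveILetI false
set_option linter.unusedSectionVars false
set_option backward.isDefEq.respectTransparency false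
set_option backward.isDefEq.respectTransparency.types false

namespace Groth.Agent.StDM16

open Groth.Agent.FC16 hiding overMap
open Groth.Agent.StAlg Groth.Agent.StAlg16 Groth.Agent.StUC16 AlgSt

variable {S : Scheme.{u}}

/-- a section of a sheaf as a functor from a slice -/
noncomputable def pt {T : Over S} {G : AlgSp.Sp S} (g : (AlgSp.yon S).obj T ⟶ G) :
    FibCat.overCat T ⥤ᵇ AlgSt.ofSp G :=
  BasedFunctor.comp (AlgSt.ofOverCat T) (AlgSt.ofSpMap g)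

theorem eq_of_pt_iso {T : Over S} {G : AlgSp.Sp S} {g g' : (AlgSp.yon S).obj T ⟶ G} (i : pt g ≅ pt g') : g = g' := by
  apply ObjectProperty.hom_ext
  have h := mapOf_congr (P := ((AlgSp.yon S).obj T).obj) (Q := G.obj)
    ((wrIso (eqToIso (toOver_ofOver T)) (AlgSt.ofSpMap g)).symm ≪≫ wlIso (AlgSt.toOverCat T) i ≪≫
      wrIso (eqToIso (toOver_ofOver T)) (AlgSt.ofSpMap g'))
  change mapOf (Stk.ofPshMap g.hom) = mapOf (Stk.ofPshMap g'.hom) at h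
  rwa [mapOf_ofPshMap, mapOf_ofPshMap] at h

theorem exists_pt {T : Over S} {G : AlgSp.Sp S} (x : FibCat.overCat T ⥤ᵇ AlgSt.ofSp G) :
    ∃ g : (AlgSp.yon S).obj T ⟶ G, Nonempty (pt g ≅ x) := by
  refine ⟨ObjectProperty.homMk (mapOf (BasedFunctor.comp (AlgSt.toOverCat T) x)), ⟨?_⟩⟩
  exact ((wrIso (eqToIso (ofOver_toOver T)) x).symm ≪≫
    wlIso (AlgSt.ofOverCat T) (isoMapOf (BasedFunctor.comp (AlgSt.toOverCat T) x))).symm

/-- composition of a section with a morphism of sheaves -/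
noncomputable def ptComp {T : Over S} {G G' : AlgSp.Sp S} (g : (AlgSp.yon S).obj T ⟶ G) (a : G ⟶ G') :
    BasedFunctor.comp (pt g) (AlgSt.ofSpMap a) ≅ pt (g ≫ a) :=
  wlIso (AlgSt.ofOverCat T) (isoMapOf (BasedFunctor.comp (Stk.ofPshMap g.hom) (Stk.ofPshMap a.hom)) ≪≫
    eqToIso (congrArg Stk.ofPshMap (show mapOf (BasedFunctor.comp (Stk.ofPshMap g.hom) (Stk.ofPshMap a.hom)) =
      (g ≫ a).hom by rw [mapOf_comp, mapOf_ofPshMap, mapOf_ofPshMap]; rfl)))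

/-- precomposition of a section -/
noncomputable def ptPre {T T' : Over S} {G : AlgSp.Sp S} (k : T' ⟶ T) (g : (AlgSp.yon S).obj T ⟶ G) :
    BasedFunctor.comp (AlgSt.overMap k) (pt g) ≅ pt ((AlgSp.yon S).map k ≫ g) :=
  wrIso (ofOverMapIso k) (AlgSt.ofSpMap g) ≪≫ ptComp ((AlgSp.yon S).map k) g

/-- a section of a representable sheaf -/
noncomputable def ptMap {T U : Over S} (h : T ⟶ U) :
    BasedFunctor.comp (pt ((AlgSp.yon S).map h)) (AlgSt.toOverCat U) ≅ AlgSt.overMap h :=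
  wlIso (AlgSt.ofOverCat T) (overMapIso h) ≪≫ wrIso (eqToIso (ofOver_toOver T)) (AlgSt.overMap h)

theorem eq_of_pt_toOver_iso {T U : Over S} {g g' : (AlgSp.yon S).obj T ⟶ (AlgSp.yon S).obj U}
    (i : BasedFunctor.comp (pt g) (AlgSt.toOverCat U) ≅ BasedFunctor.comp (pt g') (AlgSt.toOverCat U)) : g = g' := by
  obtain ⟨h, rfl⟩ := (AlgSp.yon S).map_surjective g
  obtain ⟨h', rfl⟩ := (AlgSp.yon S).map_surjective g'
  exact congrArg _ (eq_of_overMap_iso ((ptMap h).symm ≪≫ i ≪≫ ptMap h'))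

theorem ker_sq_eq_bot {A A₀ : Type u} [CommRing A] [IsArtinianRing A] [IsLocalRing A] [CommRing A₀] [Nontrivial A₀]
    (φ : A →+* A₀) (hs : IsSimpleModule A (RingHom.ker φ)) : RingHom.ker φ ^ 2 = ⊥ := by
  have hle := IsLocalRing.le_maximalIdeal (RingHom.ker_ne_top φ)
  rcases (isSimpleModule_iff_isAtom.1 hs).le_iff.1
    (Ideal.mul_le_left : RingHom.ker φ * IsLocalRing.maximalIdeal A ≤ RingHom.ker φ) with h | h
  · rw [eq_bot_iff, pow_two, ← h]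
    exact Ideal.mul_mono_right hle
  · have hb : RingHom.ker φ = ⊥ :=
      Submodule.eq_bot_of_le_smul_of_le_jacobson_bot (IsLocalRing.maximalIdeal A) _ (IsNoetherian.noetherian _)
        (by rw [smul_eq_mul, mul_comm]; exact h.ge) (IsLocalRing.maximalIdeal_le_jacobson _)
    rw [hb, pow_two, Ideal.bot_mul]

/-- uniqueness of lifts through a formally unramified morphism -/
theorem eq_of_formallyUnramified {X Y : AlgSp.Space S} (f : X ⟶ Y) (hf : AlgSp.LocP @FormallyUnramified f.hom)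
    {A A₀ : Type u} [CommRing A] [IsArtinianRing A] [IsLocalRing A] [CommRing A₀] [Nontrivial A₀]
    (φ : A →+* A₀) (hφ : Function.Surjective φ) (hs : IsSimpleModule A (RingHom.ker φ))
    (sA : Spec (CommRingCat.of A) ⟶ S) (g₁ g₂ : (AlgSp.yon S).obj (Over.mk sA) ⟶ X.obj)
    (h : g₁ ≫ f.hom = g₂ ≫ f.hom)
    (hr : (AlgSp.yon S).map (Over.homMk (Spec.map (CommRingCat.ofHom φ)) rfl :
        Over.mk (Spec.map (CommRingCat.ofHom φ) ≫ sA) ⟶ Over.mk sA) ≫ g₁ =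
      (AlgSp.yon S).map (Over.homMk (Spec.map (CommRingCat.ofHom φ)) rfl :
        Over.mk (Spec.map (CommRingCat.ofHom φ) ≫ sA) ⟶ Over.mk sA) ≫ g₂) : g₁ = g₂ := by
  let I := RingHom.ker φ
  let eA : Over.mk (Spec.map (CommRingCat.ofHom φ) ≫ sA) ⟶ Over.mk sA :=
    Over.homMk (Spec.map (CommRingCat.ofHom φ)) rfl
  let eQ : Over.mk (Spec.map (CommRingCat.ofHom (Ideal.Quotient.mk I)) ≫ sA) ⟶ Over.mk sA :=
    Over.homMk (Spec.map (CommRingCat.ofHom (Ideal.Quotient.mk I))) rfl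
  let σ : A₀ →+* A ⧸ I := (RingHom.quotientKerEquivOfSurjective hφ).symm.toRingHom
  have hσ : CommRingCat.ofHom φ ≫ CommRingCat.ofHom σ = CommRingCat.ofHom (Ideal.Quotient.mk I) := by
    ext a
    exact (RingEquiv.symm_apply_eq _).2 (RingHom.quotientKerEquivOfSurjective_apply_mk hφ a).symm
  let r : Over.mk (Spec.map (CommRingCat.ofHom (Ideal.Quotient.mk I)) ≫ sA) ⟶
      Over.mk (Spec.map (CommRingCat.ofHom φ) ≫ sA) := Over.homMk (Spec.map (CommRingCat.ofHom σ)) (by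
    show _ ≫ _ ≫ sA = _ ≫ sA
    rw [← Category.assoc, ← Spec.map_comp, hσ])
  have hr' : r ≫ eA = eQ := Over.OverMorphism.ext (by
    show Spec.map _ ≫ Spec.map _ = Spec.map _
    rw [← Spec.map_comp, hσ])
  let sq : AlgSp.InfSq f.hom :=
    { A := A, I := I, sq_zero := ker_sq_eq_bot φ hs, str := sA, top := (AlgSp.yon S).map eQ ≫ g₁,
      bot := g₁ ≫ f.hom, comm := Category.assoc _ _ _ }
  refine ((Groth.Agent.S10621.result f).1.2 hf) sq g₁ g₂ rfl rfl ?_ h.symm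
  show (AlgSp.yon S).map eQ ≫ g₂ = (AlgSp.yon S).map eQ ≫ g₁
  rw [← hr', Functor.map_comp, Category.assoc, Category.assoc, hr]

variable {𝒳 𝒴 : AlgSt.Cat S}

/-- infinitesimal automorphisms are trivial -/
def InfAut (f : 𝒳 ⥤ᵇ 𝒴) : Prop :=
  ∀ (A A₀ : Type u) [CommRing A] [IsArtinianRing A] [IsLocalRing A] [CommRing A₀] [IsLocalRing A₀]
    (φ : A →+* A₀) (_ : Function.Surjective φ) (_ : IsSimpleModule A (RingHom.ker φ))
    (sA : Spec (CommRingCat.of A) ⟶ S)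
    (xt : FibCat.overCat (Over.mk sA) ⥤ᵇ 𝒳) (Θ : xt ≅ xt),
    BasedCategory.whiskerLeft (AlgSt.overMap (Over.homMk (Spec.map (CommRingCat.ofHom φ)) rfl :
        Over.mk (Spec.map (CommRingCat.ofHom φ) ≫ sA) ⟶ Over.mk sA)) Θ.hom =
      𝟙 (BasedFunctor.comp (AlgSt.overMap (Over.homMk (Spec.map (CommRingCat.ofHom φ)) rfl :
        Over.mk (Spec.map (CommRingCat.ofHom φ) ≫ sA) ⟶ Over.mk sA)) xt) →
    BasedCategory.whiskerRight Θ.hom f = 𝟙 (BasedFunctor.comp xt f) →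
    Θ.hom = 𝟙 xt

/-- functors agreeing on a thickening are isomorphic when infinitesimal automorphisms are trivial -/
theorem iso_of_infAut {f : 𝒳 ⥤ᵇ 𝒴} (H : InfAut f) {A A₀ : Type u} [CommRing A] [IsArtinianRing A] [IsLocalRing A]
    [CommRing A₀] [IsLocalRing A₀] (φ : A →+* A₀) (hφ : Function.Surjective φ)
    (hs : IsSimpleModule A (RingHom.ker φ)) (sA : Spec (CommRingCat.of A) ⟶ S) {W : Over S}
    {c : FibCat.overCat W ⥤ᵇ FibCat.fp f f}
    (w₁ w₂ : FibCat.overCat (Over.mk sA) ⥤ᵇ FibCat.fp c (FibCat.diag f))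
    (i : BasedFunctor.comp w₁ (FibCat.fpFst c (FibCat.diag f)) ≅ BasedFunctor.comp w₂ (FibCat.fpFst c (FibCat.diag f)))
    (k : BasedFunctor.comp (AlgSt.overMap (Over.homMk (Spec.map (CommRingCat.ofHom φ)) rfl :
        Over.mk (Spec.map (CommRingCat.ofHom φ) ≫ sA) ⟶ Over.mk sA)) w₁ ≅
      BasedFunctor.comp (AlgSt.overMap (Over.homMk (Spec.map (CommRingCat.ofHom φ)) rfl :
        Over.mk (Spec.map (CommRingCat.ofHom φ) ≫ sA) ⟶ Over.mk sA)) w₂) : Nonempty (w₁ ≅ w₂) := by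
  let eA : Over.mk (Spec.map (CommRingCat.ofHom φ) ≫ sA) ⟶ Over.mk sA :=
    Over.homMk (Spec.map (CommRingCat.ofHom φ)) rfl
  have hk : ∀ x : (FibCat.overCat (Over.mk (Spec.map (CommRingCat.ofHom φ) ≫ sA) : Over S)).obj,
      (appIso (θ₁ w₁ w₂ i) ((AlgSt.overMap eA).obj x)).hom = (appIso (θ₂ w₁ w₂ i) ((AlgSt.overMap eA).obj x)).hom := by
    intro x
    have hfst : (appIso k x).hom.hom.fst = (appIso i ((AlgSt.overMap eA).obj x)).hom := by
      haveI := isHomLift_appIso_hom k x (U := x.left) rfl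
      haveI := isHomLift_appIso_hom i ((AlgSt.overMap eA).obj x) (U := x.left) rfl
      haveI : (FibCat.overCat W).p.IsHomLift (𝟙 x.left) (appIso k x).hom.hom.fst :=
        isHomLift_fst _ (appIso k x).hom
      exact overCat_hom_ext (R := x.left) _ _
    obtain ⟨h₁, h₂⟩ := θ₁_app_eq w₁ w₂ i (AlgSt.overMap eA) k x hfst
    exact h₁.trans h₂.symm
  have hΘ : (θ₁ w₁ w₂ i ≪≫ (θ₂ w₁ w₂ i).symm).hom = 𝟙 _ := by
    refine H A A₀ φ hφ hs sA _ _ ?_ ?_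
    · apply BasedNatTrans.homCategory.ext
      ext x
      show (appIso (θ₁ w₁ w₂ i) ((AlgSt.overMap eA).obj x)).hom ≫
        (appIso (θ₂ w₁ w₂ i) ((AlgSt.overMap eA).obj x)).inv = 𝟙 _
      rw [hk, Iso.hom_inv_id]
    · apply BasedNatTrans.homCategory.ext
      ext x
      show f.map ((appIso (θ₁ w₁ w₂ i) x).hom ≫ (appIso (θ₂ w₁ w₂ i) x).inv) = 𝟙 _
      rw [Functor.map_comp, map_θ_eq, ← Functor.map_comp, Iso.hom_inv_id]
      exact f.toFunctor.map_id _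
  have hθ : θ₁ w₁ w₂ i = θ₂ w₁ w₂ i := by
    apply Iso.ext
    exact (Iso.comp_inv_eq _).1 hΘ |>.trans (Category.id_comp _)
  exact iso_of_θ_eq w₁ w₂ i fun x => by rw [hθ]

theorem isDMMor_of_infAut (h𝒳 : AlgSt.IsAlgStack Scheme.etalePrecoverage 𝒳)
    (h𝒴 : AlgSt.IsAlgStack Scheme.etalePrecoverage 𝒴) (f : 𝒳 ⥤ᵇ 𝒴) (H : InfAut f) : AlgSt.IsDMMor f := by
  have gX := h𝒳.isStack.1
  have gY := h𝒴.isStack.1
  have hF := StAlg.isAlgStack_fp h𝒴.isStack h𝒴.diag h𝒳 h𝒳 f f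
  have gF := hF.isStack.1
  obtain ⟨W, c, hc, hcs⟩ := hF.atlas
  have hW := AlgSp.IsAlgSpace.yon_obj W
  let Z : AlgSp.Space S := ⟨_, hW⟩
  let z : AlgSt.ofSp Z.obj ⥤ᵇ FibCat.fp f f := BasedFunctor.comp (AlgSt.toOverCat W) c
  refine (with_iff_baseChange_cover pbP_locP isLocalOnBase_fppf_locP_unramified gX gF (rep1_diag h𝒳 h𝒴 f) Z z
    (with_toOverCat_comp (with_locP_mono smooth_le_flat hc)) (with_toOverCat_comp (with_locP_mono smooth_le_lfp hc))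
    (with_toOverCat_comp hcs)).2 ?_
  obtain ⟨G, a, e, he, ⟨ie⟩, ha⟩ := exists_baseChange_space pbP_locP isLocalOnBase_fppf_locP_lft gX gF
    (lft_diag h𝒳 h𝒴 f) Z z
  refine ⟨G, a, e, he, ⟨ie⟩, AlgSpace.locP_inf ha ?_⟩
  obtain ⟨U, p, hp, hps⟩ := G.property.atlas
  obtain ⟨h, hh⟩ := (AlgSp.yon S).map_surjective (p ≫ a.hom)
  haveI : LocallyOfFiniteType h.left :=
    ha p (𝟙 _) h hp (AlgSp.repWith_id _ _) (by rw [Category.comp_id, hh])
  refine (Groth.Agent.S10621.result a).1.1 ((Groth.Agent.S10621.result a).2 U W p (𝟙 _) h hp hps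
    (AlgSp.repWith_id _ _) (AlgSp.repWith_id _ _) (by rw [Category.comp_id, hh]) ?_)
  refine formallyUnramified_of_simpleUniq fun A A₀ _ _ _ _ _ φ hφ hs g₁ g₂ hgh hge => ?_
  let sA := g₁ ≫ U.hom
  let T : Over S := Over.mk sA
  let γ₁ : T ⟶ U := Over.homMk g₁ rfl
  let γ₂ : T ⟶ U := Over.homMk g₂ (by
    show g₂ ≫ U.hom = g₁ ≫ U.hom
    rw [← Over.w h, ← Category.assoc, ← Category.assoc, hgh])
  have hγ : γ₁ ≫ h = γ₂ ≫ h := Over.OverMorphism.ext hgh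
  let T₀ : Over S := Over.mk (Spec.map (CommRingCat.ofHom φ) ≫ sA)
  let eA : T₀ ⟶ T := Over.homMk (Spec.map (CommRingCat.ofHom φ)) rfl
  have hγ₀ : eA ≫ γ₁ = eA ≫ γ₂ := Over.OverMorphism.ext hge
  haveI := idFun_full (𝒳 := FibCat.fp f f)
  haveI := idFun_faithful (𝒳 := FibCat.fp f f)
  let M := fpMap (F := z) (G := FibCat.diag f) (F' := c) (G' := FibCat.diag f) (a := AlgSt.toOverCat W)
    (b := BasedFunctor.id 𝒳) (s := BasedFunctor.id _) (Iso.refl _) (Iso.refl _)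
  let E := BasedFunctor.comp e M
  have hE : FibCat.IsEquivOver E := isEquivOver_comp he (fpMap_isEquivOver _ _ (toOverCat_isEquivOver W) isEquivOver_id)
  let w₁ := BasedFunctor.comp (pt ((AlgSp.yon S).map γ₁ ≫ p)) E
  let w₂ := BasedFunctor.comp (pt ((AlgSp.yon S).map γ₂ ≫ p)) E
  let iF : ∀ γ : T ⟶ U, BasedFunctor.comp (BasedFunctor.comp (pt ((AlgSp.yon S).map γ ≫ p)) E)
      (FibCat.fpFst c (FibCat.diag f)) ≅ AlgSt.overMap (γ ≫ h) := fun γ =>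
    wrIso (wlIso (pt ((AlgSp.yon S).map γ ≫ p)) ie ≪≫ ptComp _ a.hom ≪≫ eqToIso (congrArg pt (by
      rw [Category.assoc, ← hh, ← Functor.map_comp]))) (AlgSt.toOverCat W) ≪≫ ptMap (γ ≫ h)
  let i : BasedFunctor.comp w₁ (FibCat.fpFst c (FibCat.diag f)) ≅ BasedFunctor.comp w₂ (FibCat.fpFst c (FibCat.diag f)) :=
    iF γ₁ ≪≫ eqToIso (congrArg AlgSt.overMap hγ) ≪≫ (iF γ₂).symm
  let k : BasedFunctor.comp (AlgSt.overMap eA) w₁ ≅ BasedFunctor.comp (AlgSt.overMap eA) w₂ :=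
    wrIso (ptPre eA ((AlgSp.yon S).map γ₁ ≫ p) ≪≫ eqToIso (congrArg pt (by
      rw [← Category.assoc, ← Functor.map_comp, hγ₀, Functor.map_comp, Category.assoc])) ≪≫
      (ptPre eA ((AlgSp.yon S).map γ₂ ≫ p)).symm) E
  obtain ⟨iw⟩ := iso_of_infAut H φ hφ hs sA w₁ w₂ i k
  obtain ⟨E', -, ⟨η⟩, -⟩ := exists_inverse hE
  have hp' := eq_of_pt_iso ((wlIso (pt ((AlgSp.yon S).map γ₁ ≫ p)) η).symm ≪≫ wrIso iw E' ≪≫
    wlIso (pt ((AlgSp.yon S).map γ₂ ≫ p)) η)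
  have hpU := AlgSpace.locP_of_repWith G.property (AlgSpace.repWith_mono (fun _ _ q (_ : Etale q) =>
    (inferInstance : FormallyUnramified q)) hp)
  have := (AlgSp.yon S).map_injective (eq_of_formallyUnramified
    (X := ⟨_, AlgSp.IsAlgSpace.yon_obj U⟩) (Y := G) (ObjectProperty.homMk p) hpU φ hφ hs sA
    ((AlgSp.yon S).map γ₁) ((AlgSp.yon S).map γ₂) hp'
    (by rw [← Functor.map_comp, ← Functor.map_comp]; exact congrArg _ hγ₀))
  exact congrArg CommaMorphism.left this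

theorem infAut_of_isDMMor (h𝒳 : AlgSt.IsAlgStack Scheme.etalePrecoverage 𝒳)
    (h𝒴 : AlgSt.IsAlgStack Scheme.etalePrecoverage 𝒴) (f : 𝒳 ⥤ᵇ 𝒴) (hf : AlgSt.IsDMMor f) : InfAut f := by
  intro A A₀ _ _ _ _ _ φ hφ hs sA xt Θ hl hr
  have gX := h𝒳.isStack.1
  have gF := fp_isFibGrpd gX gX h𝒴.isStack.1 f f
  let T : Over S := Over.mk sA
  let T₀ : Over S := Over.mk (Spec.map (CommRingCat.ofHom φ) ≫ sA)
  let eA : T₀ ⟶ T := Over.homMk (Spec.map (CommRingCat.ofHom φ)) rfl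
  let t : FibCat.overCat T ⥤ᵇ FibCat.fp f f := FibCat.fpLift xt xt (Iso.refl _)
  let Z : AlgSp.Space S := ⟨_, AlgSp.IsAlgSpace.yon_obj T⟩
  let z : AlgSt.ofSp Z.obj ⥤ᵇ FibCat.fp f f := BasedFunctor.comp (AlgSt.toOverCat T) t
  obtain ⟨G, a, e, he, ⟨ie⟩, ha⟩ := exists_baseChange_space pbP_locP isLocalOnBase_fppf_locP_unramified gX gF hf Z z
  have hrx : ∀ x, f.map (appIso Θ x).hom = 𝟙 _ := fun x =>
    NatTrans.congr_app (congrArg BasedNatTrans.toNatTrans hr) x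
  let ζ : BasedFunctor.comp (BasedFunctor.id _) t ≅ BasedFunctor.comp xt (FibCat.diag f) :=
    BasedNatIso.mkNatIso (NatIso.ofComponents (fun x => fpIsoMk (appIso Θ x) (Iso.refl _) (by
        show f.map (appIso Θ x).hom ≫ 𝟙 _ = 𝟙 _ ≫ f.map (𝟙 _)
        rw [hrx, f.toFunctor.map_id]))
      (fun {_ _} ψ => fp_hom_ext (Θ.hom.toNatTrans.naturality ψ)
        ((Category.comp_id _).trans (Category.id_comp _).symm)))
      (fun x => @isHomLift_of_fst _ _ _ _ _ _ _ _ _ _ _ _ _ (isHomLift_appIso_hom Θ x rfl))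
  let w₁ : FibCat.overCat T ⥤ᵇ FibCat.fp t (FibCat.diag f) := FibCat.fpLift (BasedFunctor.id _) xt (Iso.refl t :)
  let w₂ : FibCat.overCat T ⥤ᵇ FibCat.fp t (FibCat.diag f) := FibCat.fpLift (BasedFunctor.id _) xt ζ
  let i : BasedFunctor.comp w₁ (FibCat.fpFst t (FibCat.diag f)) ≅ BasedFunctor.comp w₂ (FibCat.fpFst t (FibCat.diag f)) :=
    Iso.refl _
  have h₁ : ∀ x, (appIso (θ₁ w₁ w₂ i) x).hom = (appIso Θ x).hom := fun x => by
    rw [θ₁_app]
    show 𝟙 _ ≫ xt.map (𝟙 _) ≫ (appIso Θ x).hom = _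
    erw [xt.toFunctor.map_id, Category.id_comp, Category.id_comp]
  have h₂ : ∀ x, (appIso (θ₂ w₁ w₂ i) x).hom = 𝟙 _ := fun x => by
    rw [θ₂_app]
    show 𝟙 _ ≫ xt.map (𝟙 _) ≫ 𝟙 _ = _
    erw [xt.toFunctor.map_id, Category.id_comp, Category.id_comp]
    rfl
  haveI := idFun_full (𝒳 := FibCat.fp f f)
  haveI := idFun_faithful (𝒳 := FibCat.fp f f)
  let M := fpMap (F := z) (G := FibCat.diag f) (F' := t) (G' := FibCat.diag f) (a := AlgSt.toOverCat T)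
    (b := BasedFunctor.id 𝒳) (s := BasedFunctor.id _) (Iso.refl _) (Iso.refl _)
  let E := BasedFunctor.comp e M
  have hE : FibCat.IsEquivOver E := isEquivOver_comp he (fpMap_isEquivOver _ _ (toOverCat_isEquivOver T) isEquivOver_id)
  obtain ⟨E', -, ⟨η⟩, ⟨η'⟩⟩ := exists_inverse hE
  obtain ⟨g₁, ⟨j₁⟩⟩ := exists_pt (BasedFunctor.comp w₁ E')
  obtain ⟨g₂, ⟨j₂⟩⟩ := exists_pt (BasedFunctor.comp w₂ E')
  let u₁ : BasedFunctor.comp (pt g₁) E ≅ w₁ := wrIso j₁ E ≪≫ wlIso w₁ η'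
  let u₂ : BasedFunctor.comp (pt g₂) E ≅ w₂ := wrIso j₂ E ≪≫ wlIso w₂ η'
  have hbot : g₁ ≫ a.hom = g₂ ≫ a.hom := eq_of_pt_toOver_iso
    (wrIso ((ptComp g₁ a.hom).symm ≪≫ wlIso (pt g₁) ie.symm) (AlgSt.toOverCat T) ≪≫
      wrIso u₁ (FibCat.fpFst t (FibCat.diag f)) ≪≫ i ≪≫ (wrIso u₂ (FibCat.fpFst t (FibCat.diag f))).symm ≪≫
      wrIso (wlIso (pt g₂) ie ≪≫ ptComp g₂ a.hom) (AlgSt.toOverCat T))
  obtain ⟨k⟩ := iso_of_θ_eq (BasedFunctor.comp (AlgSt.overMap eA) w₁) (BasedFunctor.comp (AlgSt.overMap eA) w₂)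
    (wlIso (AlgSt.overMap eA) i) (fun x => by
      show (appIso (θ₁ w₁ w₂ i) ((AlgSt.overMap eA).obj x)).hom = (appIso (θ₂ w₁ w₂ i) ((AlgSt.overMap eA).obj x)).hom
      rw [h₁, h₂]
      exact NatTrans.congr_app (congrArg BasedNatTrans.toNatTrans hl) x)
  have hres : (AlgSp.yon S).map eA ≫ g₁ = (AlgSp.yon S).map eA ≫ g₂ := eq_of_pt_iso
    ((ptPre eA g₁).symm ≪≫ wlIso (AlgSt.overMap eA) (j₁) ≪≫ wrIso k E' ≪≫
      (wlIso (AlgSt.overMap eA) j₂).symm ≪≫ ptPre eA g₂)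
  have hg := eq_of_formallyUnramified a (AlgSpace.locP_mono (fun _ _ _ h => h.2) ha) φ hφ hs sA g₁ g₂ hbot hres
  let kk : w₁ ≅ w₂ := u₁.symm ≪≫ wrIso (eqToIso (congrArg pt hg)) E ≪≫ u₂
  apply BasedNatTrans.homCategory.ext
  ext x
  have hfst : (appIso kk x).hom.hom.fst = (appIso i x).hom := by
    haveI := isHomLift_appIso_hom kk x (U := x.left) rfl
    haveI := isHomLift_appIso_hom i x (U := x.left) rfl
    haveI : (FibCat.overCat T).p.IsHomLift (𝟙 x.left) (appIso kk x).hom.hom.fst :=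
      isHomLift_fst _ (appIso kk x).hom
    exact overCat_hom_ext (R := x.left) _ _
  obtain ⟨k₁, k₂⟩ := θ₁_app_eq w₁ w₂ i (BasedFunctor.id _) kk x hfst
  exact ((h₁ x).symm.trans (k₁.trans k₂.symm)).trans (h₂ x)

end Groth.Agent.StDM16
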