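import Groth.Agent.Lib.StUC16.Functors

/-!
# Pairs of isomorphisms attached to functors into the base change of a diagonal
-/

universe v₉ u₉ v₈ u₈ v₇ u₇ v₆ u₆ v₅ u₅ v₄ u₄ v₃ u₃ v₂ u₂ v u

open CategoryTheory CategoryTheory.Functor Groth.Agent.FC16 Groth.Agent.StAlg Groth.Agent.StUC16

set_option linter.style.haveILetI false
set_option linter.unusedSectionVars false
set_option backward.isDefEq.respectTransparency false
set_option backward.isDefEq.respectTransparency.types false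

namespace Groth.Agent.StDM16

variable {C : Type u} [Category.{v} C] {𝒳 : BasedCategory.{v₂, u₂} C} {𝒴 : BasedCategory.{v₃, u₃} C}
  {𝒯 : BasedCategory.{v₄, u₄} C} {𝒲 : BasedCategory.{v₅, u₅} C} {𝒜 : BasedCategory.{v₆, u₆} C}
  {f : 𝒳 ⥤ᵇ 𝒴} {c : 𝒯 ⥤ᵇ FibCat.fp f f}

/-- the first isomorphism with the base point -/
noncomputable def leg₁ (w : 𝒲 ⥤ᵇ FibCat.fp c (FibCat.diag f)) :
    BasedFunctor.comp (BasedFunctor.comp w (FibCat.fpFst c (FibCat.diag f)))
        (BasedFunctor.comp c (FibCat.fpFst f f)) ≅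
      BasedFunctor.comp w (FibCat.fpSnd c (FibCat.diag f)) :=
  (wrIso (wlIso w (FibCat.fpIso c (FibCat.diag f))) (FibCat.fpFst f f) :)

/-- the second isomorphism with the base point -/
noncomputable def leg₂ (w : 𝒲 ⥤ᵇ FibCat.fp c (FibCat.diag f)) :
    BasedFunctor.comp (BasedFunctor.comp w (FibCat.fpFst c (FibCat.diag f)))
        (BasedFunctor.comp c (FibCat.fpSnd f f)) ≅
      BasedFunctor.comp w (FibCat.fpSnd c (FibCat.diag f)) :=
  (wrIso (wlIso w (FibCat.fpIso c (FibCat.diag f))) (FibCat.fpSnd f f) :)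

variable (w₁ w₂ : 𝒲 ⥤ᵇ FibCat.fp c (FibCat.diag f))
  (i : BasedFunctor.comp w₁ (FibCat.fpFst c (FibCat.diag f)) ≅ BasedFunctor.comp w₂ (FibCat.fpFst c (FibCat.diag f)))

/-- the isomorphism of second components through the first leg -/
noncomputable def θ₁ :
    BasedFunctor.comp w₁ (FibCat.fpSnd c (FibCat.diag f)) ≅ BasedFunctor.comp w₂ (FibCat.fpSnd c (FibCat.diag f)) :=
  (leg₁ w₁).symm ≪≫ wrIso i (BasedFunctor.comp c (FibCat.fpFst f f)) ≪≫ leg₁ w₂

/-- the isomorphism of second components through the second leg -/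
noncomputable def θ₂ :
    BasedFunctor.comp w₁ (FibCat.fpSnd c (FibCat.diag f)) ≅ BasedFunctor.comp w₂ (FibCat.fpSnd c (FibCat.diag f)) :=
  (leg₂ w₁).symm ≪≫ wrIso i (BasedFunctor.comp c (FibCat.fpSnd f f)) ≪≫ leg₂ w₂

theorem θ₁_app (x : 𝒲.obj) : (appIso (θ₁ w₁ w₂ i) x).hom =
    (w₁.obj x).obj.iso.inv.hom.fst ≫ (c.map (appIso i x).hom).hom.fst ≫ (w₂.obj x).obj.iso.hom.hom.fst := rfl

theorem θ₂_app (x : 𝒲.obj) : (appIso (θ₂ w₁ w₂ i) x).hom =
    (w₁.obj x).obj.iso.inv.hom.snd ≫ (c.map (appIso i x).hom).hom.snd ≫ (w₂.obj x).obj.iso.hom.hom.snd := rfl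

/-- the two isomorphisms agree in the base -/
theorem map_θ_eq (x : 𝒲.obj) : f.map (appIso (θ₁ w₁ w₂ i) x).hom = f.map (appIso (θ₂ w₁ w₂ i) x).hom := by
  have h1 := fp_w (w₁.obj x).obj.iso.inv
  have h2 := fp_w (c.map (appIso i x).hom)
  have h3 := fp_w (w₂.obj x).obj.iso.hom
  have e1 : f.map (w₁.obj x).obj.iso.inv.hom.fst ≫ (c.obj (w₁.obj x).obj.fst).obj.iso.hom =
      f.map (w₁.obj x).obj.iso.inv.hom.snd := h1.trans (Category.id_comp _)
  have e3 : f.map (w₂.obj x).obj.iso.hom.hom.fst =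
      (c.obj (w₂.obj x).obj.fst).obj.iso.hom ≫ f.map (w₂.obj x).obj.iso.hom.hom.snd :=
    (Category.comp_id _).symm.trans h3
  rw [θ₁_app, θ₂_app, Functor.map_comp, Functor.map_comp, Functor.map_comp, Functor.map_comp, e3,
    ← Category.assoc (f.map (c.map (appIso i x).hom).hom.fst)]
  erw [h2]
  rw [← e1]
  simp only [Category.assoc]
  rfl

/-- isomorphisms over the base agree with the two legs -/
theorem θ₁_app_eq (a : 𝒜 ⥤ᵇ 𝒲) (k : BasedFunctor.comp a w₁ ≅ BasedFunctor.comp a w₂) (x : 𝒜.obj)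
    (hk : (appIso k x).hom.hom.fst = (appIso i (a.obj x)).hom) :
    (appIso (θ₁ w₁ w₂ i) (a.obj x)).hom = (appIso k x).hom.hom.snd ∧
      (appIso (θ₂ w₁ w₂ i) (a.obj x)).hom = (appIso k x).hom.hom.snd := by
  have h := fp_w (appIso k x).hom
  have h' : c.map (appIso i (a.obj x)).hom ≫ (w₂.obj (a.obj x)).obj.iso.hom =
      (w₁.obj (a.obj x)).obj.iso.hom ≫ (FibCat.diag f).map (appIso k x).hom.hom.snd := hk ▸ h
  constructor
  · rw [θ₁_app]
    refine (congrArg ((w₁.obj (a.obj x)).obj.iso.inv.hom.fst ≫ ·) (congrArg (fun t => t.hom.fst) h' :)).trans ?_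
    refine (Category.assoc _ _ _).symm.trans ?_
    refine (congrArg (· ≫ _) (congrArg (fun t => t.hom.fst) (w₁.obj (a.obj x)).obj.iso.inv_hom_id :)).trans ?_
    exact Category.id_comp _
  · rw [θ₂_app]
    refine (congrArg ((w₁.obj (a.obj x)).obj.iso.inv.hom.snd ≫ ·) (congrArg (fun t => t.hom.snd) h' :)).trans ?_
    refine (Category.assoc _ _ _).symm.trans ?_
    refine (congrArg (· ≫ _) (congrArg (fun t => t.hom.snd) (w₁.obj (a.obj x)).obj.iso.inv_hom_id :)).trans ?_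
    exact Category.id_comp _

/-- when the two legs agree the functors are isomorphic -/
theorem iso_of_θ_eq (h : ∀ x, (appIso (θ₁ w₁ w₂ i) x).hom = (appIso (θ₂ w₁ w₂ i) x).hom) :
    Nonempty (w₁ ≅ w₂) := by
  refine ⟨BasedNatIso.mkNatIso
    (NatIso.ofComponents (fun x => fpIsoMk (appIso i x) (appIso (θ₁ w₁ w₂ i) x) (fp_hom_ext ?_ ?_))
      (fun {_ _} φ => fp_hom_ext (i.hom.toNatTrans.naturality φ) ((θ₁ w₁ w₂ i).hom.toNatTrans.naturality φ)))
    (fun x => @isHomLift_of_fst _ _ _ _ _ _ _ _ _ _ _ _ _ (isHomLift_appIso_hom i x rfl))⟩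
  · show _ = (w₁.obj x).obj.iso.hom.hom.fst ≫ (appIso (θ₁ w₁ w₂ i) x).hom
    rw [θ₁_app]
    refine ((Category.assoc _ _ _).symm.trans ?_).symm
    refine (congrArg (· ≫ _) (congrArg (fun t => t.hom.fst) (w₁.obj x).obj.iso.hom_inv_id :)).trans ?_
    exact Category.id_comp _
  · show _ = (w₁.obj x).obj.iso.hom.hom.snd ≫ (appIso (θ₁ w₁ w₂ i) x).hom
    rw [h, θ₂_app]
    refine ((Category.assoc _ _ _).symm.trans ?_).symm
    refine (congrArg (· ≫ _) (congrArg (fun t => t.hom.snd) (w₁.obj x).obj.iso.hom_inv_id :)).trans ?_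
    exact Category.id_comp _

end Groth.Agent.StDM16
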